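import Groth.Agent.Lib.BiDual22.Map
import Groth.Agent.Lib.RHomInj22.Coherent
import Groth.Agent.Lib.OX.CohRHom

/-! # `K ⊗ RHom(L, I) = RHom(RHom(K, L), I)` for coherent `K` and bounded injective `L`, `I` -/

set_option autoImplicit false
set_option maxHeartbeats 1000000
universe u

open CategoryTheory CategoryTheory.Limits CategoryTheory.Pretriangulated AlgebraicGeometry HomologicalComplex

attribute [local instance] HasDerivedCategory.standard

namespace GrothLib.BiDual22

open GrothLib.OX

variable {X U : Scheme.{u}} {A L I : CochainComplex X.Modules ℤ}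

theorem isZero_Q_of_homology {K : CochainComplex X.Modules ℤ} {i : ℤ} (h : IsZero (K.homology i)) :
    IsZero (DCoh.HD (DerivedCategory.Q.obj K) i) :=
  h.of_iso ((DerivedCategory.homologyFunctorFactors X.Modules i).app K)

theorem isZero_homology_of_Q {K : CochainComplex X.Modules ℤ} {i : ℤ}
    (h : IsZero (DCoh.HD (DerivedCategory.Q.obj K) i)) : IsZero (K.homology i) :=
  h.of_iso ((DerivedCategory.homologyFunctorFactors X.Modules i).app K).symm

theorem bound_left (hA : DCoh.IsKFlat A) {h : ℤ} (hAb : ∀ i, h < i → IsZero (A.homology i))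
    {Z : CochainComplex X.Modules ℤ} {c : ℤ} (hZ : ∀ i, c < i → IsZero (Z.homology i)) (i : ℤ) (hi : h + c < i) :
    IsZero ((((DCoh.tensorCx (X := X)).obj A).obj Z).homology i) := by
  obtain ⟨P, r, hP, -, hr, -⟩ := exists_kflat_resolution Z
  have := quasiIso_tensor_map_of_isKFlat r A hA
  exact (rightBound_tensorCx hA hAb c P hP (fun k hk => (hZ k hk).of_iso (isoOfQuasiIsoAt r k)) i (by omega)).of_iso
    (isoOfQuasiIsoAt (((DCoh.tensorCx (X := X)).obj A).map r) i).symm

theorem bound_homCx {a b : ℤ} (hL : RHomInj22.BddInj L a b) (Z : CochainComplex X.Modules ℤ) :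
    (∀ c : ℤ, (∀ i, c < i → IsZero (Z.homology i)) → ∀ i, i < a - c → IsZero (((homCx Z).obj L).homology i)) ∧
      ∀ c : ℤ, (∀ i, i < c → IsZero (Z.homology i)) → ∀ i, b - c < i → IsZero (((homCx Z).obj L).homology i) := by
  haveI := hL.isKInjective
  obtain ⟨P, r, hP, -, hr, -⟩ := exists_kflat_resolution Z
  have := hasLTensorCx P
  have := hasRSheafHom P
  have h2 : IsIso (DerivedCategory.Q.map (homMap r L)) := DualPerf22.isIso_Q_homMap r hr L hL.injective
  obtain ⟨v⟩ := nonempty_RSheafHom_value P hP L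
  let e := asIso (DerivedCategory.Q.map (homMap r L)) ≪≫ v.symm
  refine ⟨fun c hc i hi => ?_, fun c hc i hi => ?_⟩
  · exact isZero_homology_of_Q ((RHomInj22.exists_isGE_RSheafHom P c
      (fun k hk => isZero_Q_of_homology ((hc k hk).of_iso (isoOfQuasiIsoAt r k))) hL i hi).of_iso
        ((DerivedCategory.homologyFunctor _ i).mapIso e))
  · exact isZero_homology_of_Q ((RHomInj22.exists_isLE_RSheafHom P c
      (fun k hk => isZero_Q_of_homology ((hc k hk).of_iso (isoOfQuasiIsoAt r k))) hL i hi).of_iso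
        ((DerivedCategory.homologyFunctor _ i).mapIso e))

variable (j : U ⟶ X) [IsOpenImmersion j]

theorem isZero_resCx_homology {K : CochainComplex X.Modules ℤ} {i : ℤ} (h : IsZero (K.homology i)) :
    IsZero (((resCx j).obj K).homology i) :=
  ((Scheme.Modules.restrictFunctor j).map_isZero h).of_iso ((K.sc i).mapHomologyIso (Scheme.Modules.restrictFunctor j))

/-- A truncation is a quasi-isomorphism over an open where the high cohomology vanishes. -/
theorem quasiIso_resCx_ιTruncLE {Z : CochainComplex X.Modules ℤ} {n : ℤ}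
    (hZ : ∀ i, n < i → IsZero (((resCx j).obj Z).homology i)) :
    QuasiIso ((resCx j).map (Z.ιTruncLE n)) := by
  refine ⟨fun i => ?_⟩
  by_cases hi : i ≤ n
  · have : QuasiIsoAt (Z.ιTruncLE n) i := Z.quasiIsoAt_ιTruncLE n i hi
    exact inferInstance
  · rw [quasiIsoAt_iff_isIso_homologyMap]
    exact ⟨0, (isZero_resCx_homology j ((HomologicalComplex.exactAt_iff_isZero_homology _ _).1
      (((Z.truncLE n).isLE_iff n).1 inferInstance i (by omega)))).eq_of_src _ _, (hZ i (by omega)).eq_of_src _ _⟩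

/-- Both sides vanish high over an open where `Z` sits low. -/
theorem bound_both (hA : DCoh.IsKFlat A) {h : ℤ} (hAb : ∀ i, h < i → IsZero (A.homology i))
    {a b a' b' : ℤ} (hL : RHomInj22.BddInj L a b) (hI : RHomInj22.BddInj I a' b')
    {Z : CochainComplex X.Modules ℤ} {c : ℤ} (hZ : ∀ i, c < i → IsZero (((resCx j).obj Z).homology i))
    (q : ℤ) (h₁ : h + c < q) (h₂ : b' - (a - c) < q) (i : ℤ) (hi : q ≤ i) :
    IsZero (((resCx j).obj (((DCoh.tensorCx (X := X)).obj A).obj Z)).homology i) ∧
      IsZero (((resCx j).obj ((homCx ((homCx Z).obj L)).obj I)).homology i) := by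
  haveI := hL.isKInjective
  haveI := hI.isKInjective
  have hq := quasiIso_resCx_ιTruncLE j hZ
  have hZ' : ∀ k, c < k → IsZero ((Z.truncLE c).homology k) := fun k hk =>
    (HomologicalComplex.exactAt_iff_isZero_homology _ _).1 (((Z.truncLE c).isLE_iff c).1 inferInstance k hk)
  have hl := quasiIso_resCx_tensor_left j hA (Z.ιTruncLE c) hq
  have hr := DualPerf22.quasiIso_resCx_homMap j (homMap (Z.ιTruncLE c) L)
    (DualPerf22.quasiIso_resCx_homMap j (Z.ιTruncLE c) hq L hL.injective) I hI.injective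
  haveI := hl.quasiIsoAt i
  haveI := hr.quasiIsoAt i
  exact ⟨(isZero_resCx_homology j (bound_left hA hAb hZ' i (by omega))).of_iso
      (isoOfQuasiIsoAt ((resCx j).map (((DCoh.tensorCx (X := X)).obj A).map (Z.ιTruncLE c))) i).symm,
    (isZero_resCx_homology j ((bound_homCx hI _).2 (a - c) ((bound_homCx hL _).1 c hZ') i (by omega))).of_iso
      (isoOfQuasiIsoAt ((resCx j).map (homMap (homMap (Z.ιTruncLE c) L) I)) i).symm⟩

theorem isIso_homologyMap_of_X₃ {C : Type*} [Category C] [Abelian C] {S : ShortComplex (CochainComplex C ℤ)}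
    (hS : S.ShortExact) (q : ℤ) (h : ∀ i, q - 1 ≤ i → IsZero (S.X₃.homology i)) (i : ℤ) (hi : q ≤ i) :
    IsIso (HomologicalComplex.homologyMap S.f i) := by
  have : Mono (HomologicalComplex.homologyMap S.f i) :=
    (hS.homology_exact₁ (i - 1) i (by simp)).mono_g ((h (i - 1) (by omega)).eq_of_src _ _)
  have : Epi (HomologicalComplex.homologyMap S.f i) :=
    (hS.homology_exact₂ i).epi_f ((h i (by omega)).eq_of_tgt _ _)
  exact isIso_of_mono_of_epi _

theorem isIso_homologyMap_phi (u : (tensR L).obj A ⟶ I) (hA : DCoh.IsKFlat A) (hA' : FlatTerms A)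
    {h : ℤ} (hAb : ∀ i, h < i → IsZero (A.homology i))
    {a b a' b' : ℤ} (hL : RHomInj22.BddInj L a b) (hI : RHomInj22.BddInj I a' b')
    {E P : CochainComplex X.Modules ℤ} (f : E ⟶ P) (n q : ℤ)
    (hf : DerCat.Good (DerivedCategory.Q.map ((resCx j).map f)) n)
    (hn₁ : h + n < q - 1) (hn₂ : b' - (a - n) < q - 1)
    (hE : QuasiIso ((resCx j).map (phi A L u E))) (i : ℤ) (hi : q ≤ i) :
    IsIso (HomologicalComplex.homologyMap ((resCx j).map (phi A L u P)) i) := by
  haveI := hL.isKInjective
  haveI := hI.isKInjective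
  let R := resCx j
  let M := CochainComplex.mappingCone (𝟙 E)
  have hM : M.Acyclic := (DerCat.quasiIso_iff_acyclic_mappingCone (𝟙 E)).1 inferInstance
  let g : E ⟶ P ⊞ M := biprod.lift f (CochainComplex.mappingCone.inr (𝟙 E))
  let σ : (ShortComplex.mk (biprod.inr : M ⟶ P ⊞ _) biprod.fst biprod.inr_fst).Splitting :=
    { r := biprod.snd, s := biprod.inl, f_r := biprod.inr_snd, s_g := biprod.inl_fst
      id := (add_comm _ _).trans biprod.total }
  let p : P ⊞ M ⟶ P := biprod.fst
  have hp : QuasiIso (R.map p) := DerCat.quasiIso_g_of_acyclic (σ.map R).shortExact (acyclic_resCx j hM)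
  have hm : Mono g := HomologicalComplex.mono_of_mono_f g fun n => (SplitMono.mk ((biprod.snd : P ⊞ M ⟶ _).f n ≫
    (CochainComplex.mappingCone.snd (𝟙 E)).v n n (add_zero n)) (by
      rw [← Category.assoc, ← HomologicalComplex.comp_f, biprod.lift_snd, CochainComplex.mappingCone.inr_f_snd_v])).mono
  let S : ShortComplex (CochainComplex X.Modules ℤ) := ShortComplex.mk g (cokernel.π g) (cokernel.condition g)
  have hS : S.ShortExact := { exact := ShortComplex.exact_of_g_is_cokernel _ (cokernelIsCokernel g) }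
  have hg : DerCat.Good (DerivedCategory.Q.map (R.map g)) n := by
    have e : DerivedCategory.Q.map (R.map g) =
        DerivedCategory.Q.map (R.map f) ≫ inv (DerivedCategory.Q.map (R.map p)) := by
      rw [IsIso.eq_comp_inv, ← Functor.map_comp, ← Functor.map_comp, biprod.lift_fst]
    rw [e]
    exact hf.comp (DerCat.good_of_isIso _ n)
  have hX₃ : ∀ k, n - 1 < k → IsZero ((R.obj S.X₃).homology k) := fun k hk =>
    isZero_homology_of_Q ((DerCat.cone_vanish_iff (DerivedCategory.triangleOfSES (shortExact_resCx j hS))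
      (DerivedCategory.triangleOfSES_distinguished _) n).2 ⟨hg.1, hg.2⟩ k (by omega))
  have hz := fun k hk => bound_both j hA hAb hL hI hX₃ (q - 1) (by omega) (by omega) k hk
  have i₁ : IsIso (HomologicalComplex.homologyMap (R.map (((DCoh.tensorCx (X := X)).obj A).map g)) i) :=
    isIso_homologyMap_of_X₃ (shortExact_resCx j (tensorCx_shortExact_of_flatTerms hA' hS)) q (fun k hk => (hz k hk).1) i hi
  have i₂ : IsIso (HomologicalComplex.homologyMap (R.map (homMap (homMap g L) I)) i) :=
    isIso_homologyMap_of_X₃ (shortExact_resCx j (DualPerf22.homSeq_shortExact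
      (DualPerf22.homSeq_shortExact hS L hL.injective) I hI.injective)) q (fun k hk => (hz k hk).2) i hi
  have i₃ : IsIso (HomologicalComplex.homologyMap (R.map (phi A L u E)) i) :=
    (quasiIsoAt_iff_isIso_homologyMap _ _).1 (hE.quasiIsoAt i)
  have e := congrArg (fun t => HomologicalComplex.homologyMap (R.map t) i) (phi_natural A L u g)
  simp only [Functor.map_comp, HomologicalComplex.homologyMap_comp] at e
  have i₄ : IsIso (HomologicalComplex.homologyMap (R.map (phi A L u (P ⊞ M))) i) :=
    @IsIso.of_isIso_fac_left _ _ _ _ _ _ _ _ i₁ (@IsIso.comp_isIso _ _ _ _ _ _ _ i₃ i₂) e.symm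
  have j₁ : IsIso (HomologicalComplex.homologyMap (R.map (((DCoh.tensorCx (X := X)).obj A).map p)) i) :=
    (quasiIsoAt_iff_isIso_homologyMap _ _).1 ((quasiIso_resCx_tensor_left j hA p hp).quasiIsoAt i)
  have j₂ : IsIso (HomologicalComplex.homologyMap (R.map (homMap (homMap p L) I)) i) :=
    (quasiIsoAt_iff_isIso_homologyMap _ _).1 ((DualPerf22.quasiIso_resCx_homMap j (homMap p L)
      (DualPerf22.quasiIso_resCx_homMap j p hp L hL.injective) I hI.injective).quasiIsoAt i)
  have e' := congrArg (fun t => HomologicalComplex.homologyMap (R.map t) i) (phi_natural A L u p)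
  simp only [Functor.map_comp, HomologicalComplex.homologyMap_comp] at e'
  exact @IsIso.of_isIso_fac_left _ _ _ _ _ _ _ _ j₁ (@IsIso.comp_isIso _ _ _ _ _ _ _ i₄ j₂) e'.symm

/-- **`phi` is an isomorphism in the derived category for pseudo-coherent `P`.** -/
theorem isIso_Q_phi (β : ((DCoh.tensorCx (X := X)).obj A).obj (unitCx X) ⟶ (homCx L).obj I) (hβ : QuasiIso β)
    (hA : DCoh.IsKFlat A) (hA' : FlatTerms A) {h : ℤ} (hAb : ∀ i, h < i → IsZero (A.homology i))
    {a b a' b' : ℤ} (hL : RHomInj22.BddInj L a b) (hI : RHomInj22.BddInj I a' b')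
    (P : CochainComplex X.Modules ℤ) (hP : ∀ n, DCoh.IsPseudoCoherentD n (DerivedCategory.Q.obj P)) :
    IsIso (DerivedCategory.Q.map (phi A L (uOf A L β) P)) := by
  haveI := hL.isKInjective
  haveI := hI.isKInjective
  let φ := DerivedCategory.Q.map (phi A L (uOf A L β) P)
  obtain ⟨C, g, c, hT⟩ := distinguished_cocone_triangle φ
  suffices IsZero C from (Triangle.isZero₃_iff_isIso₁ _ hT).1 this
  refine isZero_of_support_empty fun q => Set.eq_empty_iff_forall_notMem.2 fun y hy => ?_
  obtain ⟨U, j, _, E, α, hyj, -, ⟨s₀, m, hb⟩, hfree, hiso, hepi⟩ :=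
    exists_free_approx_open P (min (q - 2 - h) (q - 2 - b' + a)) (hP _) y
  let n := min (q - 2 - h) (q - 2 - b' + a)
  obtain ⟨Z, s, hs, g', heq⟩ := DerivedCategory.right_fac α
  have hqs : QuasiIso s := (DerivedCategory.isIso_Q_map_iff_quasiIso _ s).1 hs
  let adj := KInj.mapComplexAdj (CxOX.extZeroAdj j) (ComplexShape.up ℤ)
  let f : (jzCx j).obj Z ⟶ P := (jzCx j).map g' ≫ adj.counit.app P
  have hu : ∀ {K M : CochainComplex U.Modules ℤ} (ψ : K ⟶ M),
      QuasiIso ψ → QuasiIso ((resCx j).map ((jzCx j).map ψ)) := fun {K M} ψ h =>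
    have := isIso_unit_cx j K
    have := isIso_unit_cx j M
    (quasiIso_iff_of_arrow_mk_iso ψ _ (Arrow.isoMk (asIso (adj.unit.app K)) (asIso (adj.unit.app M))
      (adj.unit.naturality ψ).symm)).1 h
  have hfg : adj.unit.app Z ≫ (resCx j).map f = g' :=
    ((adj.homEquiv_unit _ _ _).symm.trans (congrArg _ (adj.homEquiv_counit _ _ g').symm)).trans
      (Equiv.apply_symm_apply _ _)
  have hg' : DerCat.Good (DerivedCategory.Q.map g') n := by
    have e : DerivedCategory.Q.map g' = DerivedCategory.Q.map s ≫ α := by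
      rw [heq, IsIso.hom_inv_id_assoc]
    rw [e]
    exact (DerCat.good_of_isIso _ n).comp ⟨hiso, hepi⟩
  have hf : DerCat.Good (DerivedCategory.Q.map ((resCx j).map f)) n := by
    have := isIso_unit_cx j Z
    have e : DerivedCategory.Q.map ((resCx j).map f) =
        inv (DerivedCategory.Q.map (adj.unit.app Z)) ≫ DerivedCategory.Q.map g' := by
      rw [IsIso.eq_inv_comp, ← Functor.map_comp, hfg]
    rw [e]
    exact (DerCat.good_of_isIso _ n).comp hg'
  have h0 := (devissage_phi A L β j hA hA' hL.injective hI.injective hβ).of_bounded m E s₀ hb fun k => Or.inr (hfree k)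
  have hE : QuasiIso ((resCx j).map (phi A L (uOf A L β) ((jzCx j).obj Z))) :=
    (quasiIso_resCx_phi_iff A L (uOf A L β) j hA hL.injective hI.injective ((jzCx j).map s) (hu _ hqs)).2 h0
  have key := fun i (hi : q ≤ i) =>
    isIso_homologyMap_phi j (uOf A L β) hA hA' hAb hL hI f n q hf (by omega) (by omega) hE i hi
  have hφ : ∀ i, q ≤ i → IsIso ((DerivedCategory.homologyFunctor U.Modules i).map ((resD j).map φ)) := fun i hi => by
    have h1 : IsIso ((DerivedCategory.homologyFunctor U.Modules i).map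
        (DerivedCategory.Q.map ((resCx j).map (phi A L (uOf A L β) P)))) :=
      (NatIso.isIso_map_iff (DerivedCategory.homologyFunctorFactors U.Modules i) _).2 (key i hi)
    exact (NatIso.isIso_map_iff (Functor.isoWhiskerRight (resDFac j) (DerivedCategory.homologyFunctor U.Modules i))
      (phi A L (uOf A L β) P)).2 h1
  have hz : IsZero (DCoh.HD ((resD j).obj C) q) :=
    (DerCat.cone_vanish_iff _ ((resD j).map_distinguished _ hT) q).2
      ⟨fun i hi => hφ i hi.le, @IsIso.epi_of_iso _ _ _ _ _ (hφ q le_rfl)⟩ q le_rfl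
  exact support_subset_of_isZero_restrict j (hz.of_iso (HDResIso j C q).symm) hy hyj

/-- A resolution of `Hom(L, I)` gives a quasi-isomorphism out of its tensor product with `O`. -/
theorem exists_beta (r : A ⟶ (homCx L).obj I) (hr : QuasiIso r) :
    ∃ β : ((DCoh.tensorCx (X := X)).obj A).obj (unitCx X) ⟶ (homCx L).obj I, QuasiIso β := by
  have : QuasiIso (singleUnitNatIso.hom.app A ≫ r) := quasiIso_comp _ _
  exact ⟨singleUnitNatIso.hom.app A ≫ r, this⟩

end GrothLib.BiDual22
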