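import Groth.Agent.Lib.DualPerf22.Main

/-! # The map `A ⊗ E ⟶ Hom(Hom(E, L), I)` induced by `A ⊗ L ⟶ I`, and its devissage -/

set_option autoImplicit false
set_option maxHeartbeats 1000000
universe u

open CategoryTheory CategoryTheory.Limits CategoryTheory.Pretriangulated AlgebraicGeometry HomologicalComplex

attribute [local instance] HasDerivedCategory.standard

namespace GrothLib.BiDual22

open GrothLib.OX

variable {X U : Scheme.{u}} (A L : CochainComplex X.Modules ℤ) {I : CochainComplex X.Modules ℤ}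
  (u : (tensR L).obj A ⟶ I)

/-- Transposes of a commutative square commute. -/
theorem transpose_natural {C D : Type*} [Category C] [Category D] {P Q : C ⥤ D} {R S : D ⥤ C} (adj : P ⊣ R)
    (adj' : Q ⊣ S) {a a' : C} {t : D} (τ : Q ⟶ P) (m : R.obj t ⟶ S.obj t)
    (hm : ∀ h : a ⟶ R.obj t, (adj'.homEquiv a t).symm (h ≫ m) = τ.app a ≫ (adj.homEquiv a t).symm h)
    (f : a ⟶ a') (x : P.obj a ⟶ t) (x' : Q.obj a' ⟶ t) (k : τ.app a ≫ x = Q.map f ≫ x') :
    adj.homEquiv a t x ≫ m = f ≫ adj'.homEquiv a' t x' := by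
  apply (adj'.homEquiv a t).symm.injective
  rw [hm, Equiv.symm_apply_apply, Adjunction.homEquiv_naturality_left_symm, Equiv.symm_apply_apply, k]

/-- Evaluation `E ⊗ Hom(E, L) ⟶ L`. -/
noncomputable def evT (E : CochainComplex X.Modules ℤ) : (tensR ((homCx E).obj L)).obj E ⟶ L :=
  (tensorCxSymm ((homCx E).obj L) E).hom ≫ (homCxAdj E).counit.app L

/-- `A ⊗ E ⟶ Hom(Hom(E, L), I)`. -/
noncomputable def phi (E : CochainComplex X.Modules ℤ) :
    ((DCoh.tensorCx (X := X)).obj A).obj E ⟶ (homCx ((homCx E).obj L)).obj I :=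
  (homCxAdj ((homCx E).obj L)).homEquiv _ I ((tensorCxCompIso E ((homCx E).obj L)).hom.app A ≫
    ((DCoh.tensorCx (X := X)).obj A).map (evT L E) ≫ u)

theorem evT_natural {E E' : CochainComplex X.Modules ℤ} (f : E ⟶ E') :
    ((DCoh.tensorCx (X := X)).flip.map (homMap f L)).app E ≫ evT L E =
      (tensR ((homCx E').obj L)).map f ≫ evT L E' := by
  have h : ((DCoh.tensorCx (X := X)).flip.map f).app ((homCx E').obj L) ≫ (homCxAdj E').counit.app L =
      (tensR E).map (homMap f L) ≫ (homCxAdj E).counit.app L :=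
    (Equiv.symm_apply_apply ((homCxAdj E).homEquiv _ L) _).symm.trans ((homCxAdj E).homEquiv_counit _ _ _)
  exact DualPerf22.evC_square (DualPerf22.tensorCxSymm_natural₂ E (homMap f L))
    (tensorCxSymm_natural f ((homCx E').obj L)) h

/-- Naturality of `phi`. -/
theorem phi_natural {E E' : CochainComplex X.Modules ℤ} (f : E ⟶ E') :
    phi A L u E ≫ homMap (homMap f L) I = ((DCoh.tensorCx (X := X)).obj A).map f ≫ phi A L u E' := by
  have k := psi_square (assoc_natural₃ A E (homMap f L)) (assoc_natural₂ A ((homCx E').obj L) f)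
    (((DCoh.tensorCx (X := X)).obj A).map_comp _ _ |>.symm.trans ((congrArg _ (evT_natural L f)).trans
      (((DCoh.tensorCx (X := X)).obj A).map_comp _ _))) u
  exact transpose_natural (homCxAdj ((homCx E).obj L)) (homCxAdj ((homCx E').obj L))
    ((DCoh.tensorCx (X := X)).flip.map (homMap f L)) (homMap (homMap f L) I)
    (fun h => homEquiv_homMap (homMap f L) h) (((DCoh.tensorCx (X := X)).obj A).map f) _ _ k

/-- `(A ⊗ O) ⊗ L = A ⊗ L`. -/
noncomputable def unitAssoc :
    (tensR L).obj (((DCoh.tensorCx (X := X)).obj A).obj (unitCx X)) ≅ (tensR L).obj A :=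
  (tensorCxCompIso (unitCx X) L).app A ≪≫
    ((DCoh.tensorCx (X := X)).obj A).mapIso (tensorCxSymm L (unitCx X) ≪≫ singleUnitNatIso.app L)

variable (β : ((DCoh.tensorCx (X := X)).obj A).obj (unitCx X) ⟶ (homCx L).obj I)

/-- The map `A ⊗ L ⟶ I` transposed from `β : A ⊗ O ⟶ Hom(L, I)`. -/
noncomputable def uOf : (tensR L).obj A ⟶ I :=
  (unitAssoc A L).inv ≫ ((homCxAdj L).homEquiv _ I).symm β

variable {A L} (j : U ⟶ X) [IsOpenImmersion j]

theorem quasiIso_resCx_phi_unit (hβ : QuasiIso β) [I.IsKInjective] (hI : ∀ n, Injective (I.X n)) :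
    QuasiIso ((resCx j).map (phi A L (uOf A L β) (unitCx X))) := by
  let O := unitCx X
  let v : (tensR O).obj L ⟶ L := singleUnitNatIso.hom.app L
  let g : L ⟶ (homCx O).obj L := (homCxAdj O).homEquiv L L v
  have hg : QuasiIso g := DualPerf22.quasiIso_homEquiv_unit v
  have key : phi A L (uOf A L β) O ≫ homMap g I = β := by
    apply ((homCxAdj L).homEquiv _ I).symm.injective
    rw [homEquiv_homMap, phi, Equiv.symm_apply_apply]
    have hgv : (tensR O).map g ≫ (homCxAdj O).counit.app L = v :=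
      ((homCxAdj O).homEquiv_counit _ _ _).symm.trans (Equiv.symm_apply_apply _ _)
    have hev : ((DCoh.tensorCx (X := X)).flip.map g).app O ≫ evT L O =
        (tensorCxSymm L O ≪≫ singleUnitNatIso.app L).hom :=
      (Category.assoc _ _ _).symm.trans ((congrArg (· ≫ _) (DualPerf22.tensorCxSymm_natural₂ O g)).trans
        ((Category.assoc _ _ _).trans (congrArg (_ ≫ ·) hgv)))
    have h3 : ((DCoh.tensorCx (X := X)).flip.map g).app (((DCoh.tensorCx (X := X)).obj A).obj O) ≫
        (tensorCxCompIso O ((homCx O).obj L)).hom.app A ≫ ((DCoh.tensorCx (X := X)).obj A).map (evT L O) =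
        (unitAssoc A L).hom :=
      (Category.assoc _ _ _).symm.trans ((congrArg (· ≫ _) (assoc_natural₃ A O g)).trans ((Category.assoc _ _ _).trans
        (congrArg (_ ≫ ·) ((((DCoh.tensorCx (X := X)).obj A).map_comp _ _).symm.trans (congrArg _ hev)))))
    rw [reassoc_of% h3, uOf, Iso.hom_inv_id_assoc]
  have h3 := DualPerf22.quasiIso_resCx_homMap j g (quasiIso_resCx_map j g hg) I hI
  have h4 : QuasiIso ((resCx j).map (phi A L (uOf A L β) O ≫ homMap g I)) := by
    rw [key]
    exact quasiIso_resCx_map j _ hβ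
  rw [Functor.map_comp] at h4
  exact (quasiIso_iff_comp_right _ _).1 h4

variable (A L)

theorem quasiIso_resCx_phi_iff (hA : DCoh.IsKFlat A) [L.IsKInjective] [I.IsKInjective]
    (hL : ∀ n, Injective (L.X n)) (hI : ∀ n, Injective (I.X n))
    {E E' : CochainComplex X.Modules ℤ} (f : E ⟶ E') (hf : QuasiIso ((resCx j).map f)) :
    QuasiIso ((resCx j).map (phi A L u E)) ↔ QuasiIso ((resCx j).map (phi A L u E')) := by
  have h1 := DualPerf22.quasiIso_resCx_homMap j (homMap f L) (DualPerf22.quasiIso_resCx_homMap j f hf L hL) I hI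
  have h2 := quasiIso_resCx_tensor_left j hA f hf
  have h := congrArg (resCx j).map (phi_natural A L u f)
  rw [Functor.map_comp, Functor.map_comp] at h
  rw [← quasiIso_iff_comp_right _ ((resCx j).map (homMap (homMap f L) I)), h, quasiIso_iff_comp_left]

theorem quasiIso_resCx_phi_contractible (hA : DCoh.IsKFlat A) [L.IsKInjective] [I.IsKInjective]
    {E : CochainComplex X.Modules ℤ} (h : Homotopy (𝟙 E) 0) : QuasiIso ((resCx j).map (phi A L u E)) := by
  have hE : E.Acyclic := fun i => by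
    rw [HomologicalComplex.exactAt_iff_isZero_homology, IsZero.iff_id_eq_zero,
      ← HomologicalComplex.homologyMap_id, h.homologyMap_eq i, HomologicalComplex.homologyMap_zero]
  exact quasiIso_of_acyclic_both _
    (acyclic_resCx j (DerCat.acyclic_of_iso (tensorCxSymm E A).symm ((isKFlat_iff A).1 hA E hE)))
    (DualPerf22.acyclic_resCx_homCx j (acyclic_resCx j (acyclic_homCx_of_contractible h L)) I)

theorem shortExact_resCx {S : ShortComplex (CochainComplex X.Modules ℤ)} (hS : S.ShortExact) :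
    (S.map (resCx j)).ShortExact :=
  HomologicalComplex.shortExact_of_degreewise_shortExact _ fun n =>
    (hS.map_of_exact (HomologicalComplex.eval X.Modules (ComplexShape.up ℤ) n)).map_of_exact
      (Scheme.Modules.restrictFunctor j)

theorem quasiIso_resCx_phi_ext (hA : FlatTerms A) [L.IsKInjective] [I.IsKInjective]
    (hL : ∀ n, Injective (L.X n)) (hI : ∀ n, Injective (I.X n))
    {E₁ E₂ E₃ : CochainComplex X.Modules ℤ} (f : E₁ ⟶ E₂) (g : E₂ ⟶ E₃) (w : f ≫ g = 0)
    (hS : (ShortComplex.mk f g w).ShortExact) :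
    (QuasiIso ((resCx j).map (phi A L u E₁)) → QuasiIso ((resCx j).map (phi A L u E₂)) → QuasiIso ((resCx j).map (phi A L u E₃))) ∧
      (QuasiIso ((resCx j).map (phi A L u E₁)) → QuasiIso ((resCx j).map (phi A L u E₃)) → QuasiIso ((resCx j).map (phi A L u E₂))) ∧
      (QuasiIso ((resCx j).map (phi A L u E₂)) → QuasiIso ((resCx j).map (phi A L u E₃)) → QuasiIso ((resCx j).map (phi A L u E₁))) := by
  let S : ShortComplex (CochainComplex X.Modules ℤ) := ShortComplex.mk f g w
  exact two_of_three_of_squares (resCx j) ((DCoh.tensorCx (X := X)).obj A) f g w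
    (homMap (homMap f L) I) (homMap (homMap g L) I) (homMap_comp_zero (homSeq S L) I)
    (phi A L u E₁) (phi A L u E₂) (phi A L u E₃) (phi_natural A L u f) (phi_natural A L u g)
    (shortExact_resCx j (tensorCx_shortExact_of_flatTerms hA hS))
    (shortExact_resCx j (DualPerf22.homSeq_shortExact (DualPerf22.homSeq_shortExact hS L hL) I hI))

theorem phi_ext_jz (hA : FlatTerms A) [L.IsKInjective] [I.IsKInjective]
    (hL : ∀ n, Injective (L.X n)) (hI : ∀ n, Injective (I.X n))
    {S : ShortComplex (CochainComplex U.Modules ℤ)}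
    (σ : ∀ q, (S.map (HomologicalComplex.eval U.Modules (ComplexShape.up ℤ) q)).Splitting) :
    (QuasiIso ((resCx j).map (phi A L u ((jzCx j).obj S.X₁))) → QuasiIso ((resCx j).map (phi A L u ((jzCx j).obj S.X₂))) → QuasiIso ((resCx j).map (phi A L u ((jzCx j).obj S.X₃)))) ∧
      (QuasiIso ((resCx j).map (phi A L u ((jzCx j).obj S.X₁))) → QuasiIso ((resCx j).map (phi A L u ((jzCx j).obj S.X₃))) → QuasiIso ((resCx j).map (phi A L u ((jzCx j).obj S.X₂)))) ∧
      (QuasiIso ((resCx j).map (phi A L u ((jzCx j).obj S.X₂))) → QuasiIso ((resCx j).map (phi A L u ((jzCx j).obj S.X₃))) → QuasiIso ((resCx j).map (phi A L u ((jzCx j).obj S.X₁)))) :=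
  quasiIso_resCx_phi_ext A L u j hA hL hI (E₁ := (jzCx j).obj S.X₁) (E₂ := (jzCx j).obj S.X₂) (E₃ := (jzCx j).obj S.X₃)
    ((jzCx j).map S.f) ((jzCx j).map S.g) (by rw [← Functor.map_comp, S.zero, Functor.map_zero])
    (HomologicalComplex.shortExact_of_degreewise_shortExact _ fun q => ((σ q).map (CxOX.extZero j)).shortExact)

theorem devissage_phi (hA : DCoh.IsKFlat A) (hA' : FlatTerms A) [L.IsKInjective] [I.IsKInjective]
    (hL : ∀ n, Injective (L.X n)) (hI : ∀ n, Injective (I.X n)) (hβ : QuasiIso β) :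
    Devissage (X := U) fun E => QuasiIso ((resCx j).map (phi A L (uOf A L β) ((jzCx j).obj E))) where
  iso {E E'} e h := (quasiIso_resCx_phi_iff A L (uOf A L β) j hA hL hI ((jzCx j).map e.hom)
    (quasiIso_resCx_map j ((jzCx j).map e.hom) inferInstance)).1 h
  contractible {E} h := quasiIso_resCx_phi_contractible A L (uOf A L β) j hA (E := (jzCx j).obj E)
    ((Homotopy.ofEq ((jzCx j).map_id E).symm).trans
      (((CxOX.extZero j).mapHomotopy h).trans (Homotopy.ofEq ((jzCx j).map_zero E E))))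
  base := by
    let e : unitCx U ≅ (resCx j).obj (unitCx X) :=
      (single _ _ 0).mapIso (((Scheme.Modules.restrictFunctorIsoPullback j).app _) ≪≫ pullUnitIso j).symm ≪≫
        ((singleMapHomologicalComplex (Scheme.Modules.restrictFunctor j) (ComplexShape.up ℤ) 0).app _).symm
    let ε : (jzCx j).obj ((resCx j).obj (unitCx X)) ⟶ unitCx X :=
      (KInj.mapComplexAdj (CxOX.extZeroAdj j) (ComplexShape.up ℤ)).counit.app (unitCx X)
    have hε : IsIso ((resCx j).map ε) :=
      have : ∀ n, IsIso (((resCx j).map ε).f n) := fun n => isIso_restrict_epsZ j ((unitCx X).X n)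
      HomologicalComplex.Hom.isIso_of_components _
    have hq : QuasiIso ((resCx j).map ((jzCx j).map e.hom ≫ ε)) := by
      rw [Functor.map_comp]
      infer_instance
    exact (quasiIso_resCx_phi_iff A L (uOf A L β) j hA hL hI ((jzCx j).map e.hom ≫ ε) hq).2
      (quasiIso_resCx_phi_unit β j hβ hI)
  ext₁ {S} σ h₂ h₃ := (phi_ext_jz A L (uOf A L β) j hA' hL hI σ).2.2 h₂ h₃
  ext₂ {S} σ h₁ h₃ := (phi_ext_jz A L (uOf A L β) j hA' hL hI σ).2.1 h₁ h₃
  ext₃ {S} σ h₁ h₂ := (phi_ext_jz A L (uOf A L β) j hA' hL hI σ).1 h₁ h₂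

end GrothLib.BiDual22
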